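import Cfsg.Agent.NFP.Act

/-!
The order formula `|G| = |C_G(H)| ^ |H|` for a Frobenius group `F H` of operators with
fixed-point-free kernel on a solvable group.
-/

set_option autoImplicit false

namespace Cfsg.Agent.NFP

open Subgroup Cfsg Cfsg.Agent.PLocal.Amb Cfsg.Agent.Solv.Ext Cfsg.Agent.FGS.Camina
open PLocal PLocal.EA

universe u

variable {A : Type*} [Group A]

/-- The fixed points of `H`. -/
def fxH (H : Subgroup A) (G : Type u) [Group G] [MulDistribMulAction A G] : Subgroup G where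
  carrier := {g | ∀ h ∈ H, h • g = g}
  one_mem' := fun h _ => smul_one h
  mul_mem' := fun {a b} ha hb h hh => by rw [smul_mul', ha h hh, hb h hh]
  inv_mem' := fun {a} ha h hh => by rw [smul_inv', ha h hh]

variable [Finite A] {F H : Subgroup A}

theorem FH.card_ea {G : Type u} [Group G] [Finite G] [MulDistribMulAction A G] {p : ℕ}
    [Fact p.Prime] {V : Subgroup G} (hV : IsElementaryAbelian p V) (hI : Inv A V) (h : FH F H)
    (hfix : Fpf F V) : Nat.card V = Nat.card ↥(V ⊓ fxH H G) ^ Nat.card H := by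
  classical
  have := Fintype.ofFinite H
  obtain ⟨W, hi, hs⟩ := h.fr hV hI hfix
  set ρ := arep hV hI with hρ
  have hinj : ∀ y y' : H → EA hV, (∀ k, y k ∈ W) → (∀ k, y' k ∈ W) →
      ∑ k : H, ρ k (y k) = ∑ k : H, ρ k (y' k) → ∀ k, y k = y' k := fun y y' hy hy' e k =>
    sub_eq_zero.1 (hi (fun k => y k - y' k) (fun k => W.sub_mem (hy k) (hy' k)) (by simp [e]) k)
  have e1 : Nat.card (H → W) = Nat.card V := by
    refine Nat.card_eq_of_bijective
      (fun w => (⟨(∑ k : H, ρ k (w k)).val, val_mem _⟩ : V)) ⟨fun w w' e => ?_, fun v => ?_⟩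
    · funext k
      exact Subtype.ext (hinj _ _ (fun k => (w k).2) (fun k => (w' k).2)
        (ext (congrArg Subtype.val e)) k)
    · obtain ⟨w, hw, hw'⟩ := hs (of hV v v.2)
      exact ⟨fun k => ⟨w k, hw k⟩, Subtype.ext (congrArg val hw')⟩
  have hfx : ∀ (w : EA hV) (a : H), ρ a (∑ k : H, ρ k w) = ∑ k : H, ρ k w := fun w a => by
    rw [map_sum]
    conv_rhs => rw [← Equiv.sum_comp (Equiv.mulLeft a)]
    simp
  have e2 : Nat.card W = Nat.card ↥(V ⊓ fxH H G) := by
    refine Nat.card_eq_of_bijective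
      (fun w => (⟨(∑ k : H, ρ k w).val, val_mem _, fun a ha => congrArg val (hfx w ⟨a, ha⟩)⟩ :
        ↥(V ⊓ fxH H G))) ⟨fun w w' e => ?_, fun v => ?_⟩
    · exact Subtype.ext (hinj (fun _ => w) (fun _ => w') (fun _ => w.2) (fun _ => w'.2)
        (EA.ext (congrArg (fun x : ↥(V ⊓ fxH H G) => (x : G)) e)) 1)
    · obtain ⟨w, hw, hw'⟩ := hs (of hV v v.2.1)
      have hc : ∀ k, w k = w 1 := fun k => by
        have h1 : ρ (k⁻¹ : H) (of hV v v.2.1) = of hV v v.2.1 := ext (v.2.2 _ (k⁻¹ : H).2)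
        have h2 : ∑ l : H, ρ l (w (k * l)) = ∑ l : H, ρ l (w l) := by
          rw [hw', ← h1, ← hw', map_sum]
          conv_rhs => rw [← Equiv.sum_comp (Equiv.mulLeft k)]
          refine Finset.sum_congr rfl fun l _ => ?_
          rw [← Module.End.mul_apply, ← map_mul]; simp
        simpa using hinj (fun l => w (k * l)) w (fun l => hw _) hw h2 1
      refine ⟨⟨w 1, hw 1⟩, Subtype.ext ?_⟩
      change (∑ k : H, ρ k (w 1)).val = v
      rw [← Finset.sum_congr rfl fun (k : H) _ => congrArg (ρ k) (hc k), hw', val_of]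
  rw [← e1, Nat.card_fun, e2]

theorem FH.card_aux (h : FH F H) (n : ℕ) : ∀ (G : Type u) [Group G] [Finite G]
    [MulDistribMulAction A G], Nat.card G = n → Group.IsSolvable G → Fpf F (⊤ : Subgroup G) →
    Nat.card G = Nat.card (fxH H G) ^ Nat.card H := by
  induction n using Nat.strong_induction_on with
  | _ n ih =>
  intro G _ _ _ hn hs hfix
  classical
  by_cases h1 : Subsingleton G
  · rw [Nat.card_of_subsingleton (1 : G), Nat.card_of_subsingleton (1 : fxH H G), one_pow]
  have hnt : Nontrivial G := not_subsingleton_iff_nontrivial.1 h1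
  have hex : ∃ k, derivedSeries G (k + 1) = ⊥ := by
    obtain ⟨k, hk⟩ := hs.solvable
    exact ⟨k, by rw [derivedSeries_succ, hk]; simp⟩
  set D := derivedSeries G (Nat.find hex) with hD
  have hD1 : D ≠ ⊥ := by
    rcases e : Nat.find hex with _ | j
    · rw [hD, e]; exact top_ne_bot
    · rw [hD, e]; exact Nat.find_min hex (by omega)
  have hDc : IsMulCommutative D := ⟨⟨fun a b => Subtype.ext (commutatorElement_eq_one_iff_mul_comm.1
    (mem_bot.1 (Nat.find_spec hex ▸ commutator_mem_commutator a.2 b.2)))⟩⟩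
  obtain ⟨p, hp, hd⟩ := Nat.exists_prime_and_dvd (fun e => hD1 (card_eq_one.1 e))
  have := Fact.mk hp
  have hDn : Group.IsNilpotent D := by
    let _ : CommGroup D := { (inferInstance : Group D) with mul_comm := hDc.is_comm.comm }
    infer_instance
  set V := omegaZ D p
  have hV1 : V ≠ ⊥ := omegaZ_ne_bot hDn hp hd
  have hVI : Inv A V := inv_omegaZ (inv_of_characteristic D) p
  obtain ⟨_, hq⟩ := exists_quotAction hVI
  have hc := card_eq_card_quotient_mul_card_subgroup V
  have h4 := V.one_lt_card_iff_ne_bot.2 hV1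
  have h5 : 0 < Nat.card (G ⧸ V) := Nat.card_pos
  have hf : Fpf F (⊤ : Subgroup (G ⧸ V)) := by
    have := hfix.quot h.nil hVI le_top hq
    rwa [← MonoidHom.range_eq_map, MonoidHom.range_eq_top.2 (QuotientGroup.mk'_surjective V)] at this
  have e1 := ih _ (by rw [← hn]; nlinarith) (G ⧸ V) rfl inferInstance hf
  have e2 := h.card_ea (ea_omegaZ D p) hVI (hfix.mono le_top)
  have e3 : (fxH H G).map (QuotientGroup.mk' V) = fxH H (G ⧸ V) := by
    refine le_antisymm ?_ fun x hx => ?_
    · rintro _ ⟨g, hg, rfl⟩ a ha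
      exact (hq a g).trans (congrArg _ (hg a ha))
    · obtain ⟨g, rfl⟩ := QuotientGroup.mk_surjective x
      obtain ⟨c, hc1, hc2⟩ := h.lift hVI (hfix.mono le_top) g fun a ha => by
        rw [← QuotientGroup.eq, ← hq]; exact (hx a ha).symm
      exact ⟨c, hc1, (QuotientGroup.eq.2 hc2).symm⟩
  have e4 : Nat.card (fxH H G) = Nat.card (fxH H (G ⧸ V)) * Nat.card ↥(V ⊓ fxH H G) := by
    rw [← e3, ← relIndex_ker, QuotientGroup.ker_mk', relIndex,
      ← Nat.card_congr (subgroupOfEquivOfLe (inf_le_right : V ⊓ fxH H G ≤ _)).toEquiv,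
      inf_subgroupOf_right, index_mul_card]
  rw [hc, e1, e2, e4, mul_pow]

theorem FH.card_eq (h : FH F H) {G : Type u} [Group G] [Finite G] [MulDistribMulAction A G]
    (hs : Group.IsSolvable G) (hf : Fpf F (⊤ : Subgroup G)) :
    Nat.card G = Nat.card (fxH H G) ^ Nat.card H :=
  h.card_aux _ G rfl hs hf

end Cfsg.Agent.NFP
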