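import Cfsg.Agent.NFP.Act
import Cfsg.Agent.Solv.FpfThompson

/-!
Frobenius groups `F H` of operators with `C_G(F) = 1`: `G` is generated by the translates of
`C_G(H)`, and `G` is nilpotent if `C_G(H)` is.
-/

set_option autoImplicit false

namespace Cfsg.Agent.NFP

open Subgroup Cfsg Cfsg.Agent.PLocal.Amb Cfsg.Agent.Solv.Ext Cfsg.Agent.FGS.Camina
open scoped Pointwise IsMulCommutative

universe u

variable {A : Type*} {G : Type u} [Group A] [Group G] [MulDistribMulAction A G] [Finite A]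
  [Finite G] {F H : Subgroup A}

theorem FH.sec (h : FH F H) {U S : Subgroup G} (hU : Inv A U) (hS : Inv A S) (hfix : Fpf F S)
    (hn : S ≤ 𝐍[U]) (h1 : ¬ S ≤ U) : ∃ c ∈ S, c ∉ U ∧ ∀ a ∈ H, a • c = c := by
  obtain ⟨_, hs⟩ := exists_subAction hS
  have hI : Inv A (U.subgroupOf S) := hU.comap (f := S.subtype) fun a x => (hs a x).symm
  have := normal_subgroupOf' hn
  have hf : Fpf F (⊤ : Subgroup S) := fun y _ h => Subtype.ext (hfix y y.2 fun f hf => by
    rw [← hs, h f hf])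
  obtain ⟨_, hq⟩ := exists_quotAction hI
  obtain ⟨_, ⟨c, -, rfl⟩, h2, h3⟩ := h.exists_fix (inv_top.map fun a x => hq a x)
    (hf.quot h.nil hI le_top hq) (by
      rwa [Ne, Subgroup.map_eq_bot_iff, QuotientGroup.ker_mk', top_le_iff, subgroupOf_eq_top])
  obtain ⟨d, h4, h5⟩ := h.lift hI (hf.mono le_top) c fun a ha => by
    rw [← QuotientGroup.eq, ← hq]; exact (h3 a ha).symm
  refine ⟨d, d.2, fun hd => h2 ((QuotientGroup.eq_one_iff c).2 ?_), fun a ha => by
    rw [← hs, h4 a ha]⟩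
  simpa using mul_mem (show d ∈ U.subgroupOf S from hd) (inv_mem h5)

theorem FH.le_of_fix (h : FH F H) {U K : Subgroup G} (hU : Inv A U) (hK : Inv A K) (hfix : Fpf F K)
    (h1 : ∀ c ∈ K, (∀ a ∈ H, a • c = c) → c ∈ U) : K ≤ U := by
  have := h.normal
  refine Solv.le_of_forall_sylow_le K U fun p _ => ?_
  obtain ⟨T, hT, hI⟩ := hfix.exists_syl h.nil hK p
  obtain ⟨P, rfl⟩ := hT.exists_sylow_map
  refine ⟨P, inf_eq_left.1 (eq_of_inf_normalizer_le hT.pgrp inf_le_left ?_)⟩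
  by_contra h2
  obtain ⟨c, hc, h3, h4⟩ := h.sec (hI.inf hU) (hI.inf (hI.inf hU).normalizer)
    (hfix.mono (inf_le_left.trans hT.le)) inf_le_right h2
  exact h3 (mem_inf.2 ⟨hc.1, h1 c (hT.le hc.1) h4⟩)

section W

variable {M Q : Type u} [CommGroup M] [Group Q] [MulDistribMulAction Q M]

/-- Subgroups maximal among those with nontrivial fixed points. -/
def Mx (M : Type u) {Q : Type u} [CommGroup M] [Group Q] [MulDistribMulAction Q M]
    (K : Subgroup Q) : Prop :=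
  (∃ m : M, m ≠ 1 ∧ ∀ x ∈ K, x • m = m) ∧
    ∀ m : M, m ≠ 1 → (∀ x ∈ K, x • m = m) → ∀ x : Q, x • m = m → x ∈ K

def Good (w : Subgroup Q → M) : Prop := ∀ L, w L = 1 ∨ (Mx M L ∧ ∀ x ∈ L, x • w L = w L)

theorem exists_mx [Finite Q] [Nontrivial M] : ∃ K : Subgroup Q, Mx M K := by
  obtain ⟨m, hm⟩ := exists_ne (1 : M)
  obtain ⟨_, ⟨m, hm, rfl⟩, h⟩ := (wellFounded_gt (α := Subgroup Q)).has_min
    {K | ∃ m : M, m ≠ 1 ∧ MulAction.stabilizer Q m = K} ⟨_, m, hm, rfl⟩
  refine ⟨MulAction.stabilizer Q m, ⟨m, hm, fun x hx => hx⟩, fun m' hm' h1 x hx => ?_⟩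
  by_contra h2
  exact h _ ⟨m', hm', rfl⟩ (lt_of_le_of_ne h1 fun e => h2 (e ▸ hx))

theorem Good.comm (hc : ∀ (x y : Q) (m : M), x • y • m = y • x • m) {w : Subgroup Q → M}
    (h : Good w) (x : Q) : Good fun L => x • w L / w L := fun L =>
  (h L).imp (fun h => by simp [h]) fun h => ⟨h.1, fun y hy => by
    rw [smul_div', hc, h.2 y hy]⟩

theorem Good.indep (hc : ∀ (x y : Q) (m : M), x • y • m = y • x • m) (s : Finset (Subgroup Q)) :
    ∀ {w : Subgroup Q → M}, Good w → ∏ L ∈ s, w L = 1 → ∀ L ∈ s, w L = 1 := by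
  classical
  induction s using Finset.induction_on with
  | empty => simp
  | insert K s hK ih =>
  intro w hw h
  rw [Finset.prod_insert hK] at h
  suffices h1 : ∀ L ∈ s, w L = 1 by
    rw [Finset.prod_eq_one h1, mul_one] at h
    simpa [h] using h1
  rcases hw K with h1 | ⟨h1, h2⟩
  · exact ih hw (by rwa [h1, one_mul] at h)
  intro L hL
  by_contra h3
  obtain ⟨h4, h5⟩ := (hw L).resolve_left h3
  have h6 : K ≤ L := fun x hx => h4.2 _ h3 h5 x (div_eq_one.1 (ih (hw.comm hc x) (by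
    rw [Finset.prod_div_distrib, ← Finset.smul_prod', div_eq_one, eq_inv_of_mul_eq_one_right h,
      smul_inv', h2 x hx]) L hL))
  exact hK ((le_antisymm h6 fun x hx => h1.2 _ h3 (fun y hy => h5 y (h6 hy)) x (h5 x hx)) ▸ hL)

variable [MulDistribMulAction A M] [MulDistribMulAction A Q]
  (hs : ∀ (a : A) (x : Q) (m : M), a • x • m = (a • x) • a • m)

omit [Finite A] in
include hs in
theorem fix_smul {K : Subgroup Q} {m : M} (h : ∀ x ∈ K, x • m = m) (a : A) :
    ∀ x ∈ a • K, x • a • m = a • m := by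
  rintro _ ⟨x, hx, rfl⟩
  exact (hs a x m).symm.trans (by rw [h x hx])

omit [Finite A] in
include hs in
theorem Mx.smul {K : Subgroup Q} (h : Mx M K) (a : A) : Mx M (a • K) := by
  obtain ⟨⟨m, hm, h1⟩, h2⟩ := h
  refine ⟨⟨a • m, by rwa [Ne, smul_eq_iff_eq_inv_smul, smul_one], fix_smul hs h1 a⟩, fun m hm h3 x hx => ?_⟩
  have h4 := fix_smul hs h3 a⁻¹
  rw [inv_smul_smul] at h4
  exact mem_pointwise_smul_iff_inv_smul_mem.2 (h2 _
    (by rwa [Ne, smul_eq_iff_eq_inv_smul, smul_one]) h4 _ (by rw [← hs, hx]))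

omit [Finite A] in
include hs in
theorem Mx.orbit [Fintype (Subgroup Q)] {K : Subgroup Q} (h : Mx M K) (B : Subgroup A) {m : M}
    (h1 : ∀ x ∈ K, x • m = m) (h2 : ∀ b ∈ B, b • K = K → b • m = m) :
    ∃ w : Subgroup Q → M, Good w ∧ w K = m ∧ ∀ b ∈ B, b • ∏ L, w L = ∏ L, w L := by
  classical
  let w : Subgroup Q → M := fun L => if h : ∃ b ∈ B, b • K = L then h.choose • m else 1
  have e1 : ∀ b ∈ B, w (b • K) = b • m := fun b hb => by
    have h3 : ∃ c ∈ B, c • K = b • K := ⟨b, hb, rfl⟩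
    rw [show w (b • K) = h3.choose • m from dif_pos h3, ← inv_smul_eq_iff, ← mul_smul]
    exact h2 _ (mul_mem (inv_mem hb) h3.choose_spec.1) (by
      rw [mul_smul, h3.choose_spec.2, inv_smul_smul])
  have e2 : ∀ L, (∃ b ∈ B, b • K = L) ∨ ((¬ ∃ b ∈ B, b • K = L) ∧ w L = 1) := fun L =>
    (em _).imp id fun h => ⟨h, dif_neg h⟩
  refine ⟨w, fun L => ?_, by simpa using e1 1 (one_mem B), fun b hb => ?_⟩
  · rcases e2 L with ⟨b, hb, rfl⟩ | h3
    · exact Or.inr ⟨h.smul hs b, e1 b hb ▸ fix_smul hs h1 b⟩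
    · exact Or.inl h3.2
  rw [Finset.smul_prod', ← Equiv.prod_comp (MulAction.toPerm b) w]
  refine Finset.prod_congr rfl fun L _ => ?_
  rcases e2 L with ⟨c, hc, rfl⟩ | h3
  · rw [MulAction.toPerm_apply, ← mul_smul, e1 _ hc, e1 _ (mul_mem hb hc), mul_smul]
  · rcases e2 (b • L) with ⟨c, hc, h4⟩ | h4
    · exact (h3.1 ⟨_, mul_mem (inv_mem hb) hc, by rw [mul_smul, h4, inv_smul_smul]⟩).elim
    · rw [MulAction.toPerm_apply, h3.2, h4.2, smul_one]

include hs in
theorem FH.exists_cent [Finite M] [Finite Q] [Nontrivial M] (h : FH F H)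
    (hc : ∀ (x y : Q) (m : M), x • y • m = y • x • m) (hM : Fpf F (⊤ : Subgroup M))
    (hQ : Fpf F (⊤ : Subgroup Q)) (hH : ∀ (x : Q) (m : M), (∀ a ∈ H, a • x = x) →
      (∀ a ∈ H, a • m = m) → x • m = m) : ∃ m : M, m ≠ 1 ∧ ∀ x : Q, x • m = m := by
  have := Fintype.ofFinite (Subgroup Q)
  have := h.normal
  have := h.nil
  have key : ∀ K : Subgroup Q, Mx M K → ∀ x : Q, (∀ a ∈ H, a • x = x) → x ∈ K := by
    intro K hK x hx
    set B := MulAction.stabilizer A K
    have h1 : FH (F.subgroupOf B) (H.subgroupOf B) :=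
      ⟨inferInstance, Grp.isNilpotent_comap_of_injective F _ B.subtype_injective,
        fun a ha h1 f hf h2 => Subtype.ext (h.fpf a ha (fun e => h1 (Subtype.ext e)) f hf
          (congrArg Subtype.val h2))⟩
    obtain ⟨m, h2, h3, h4⟩ := h1.exists_fix (K := FixedPoints.subgroup K M)
      (fun b m hm y => fix_smul hs (fun y hy => hm ⟨y, hy⟩) (b : A) y (b.2.symm ▸ y.2))
      (fun m hm h2 => by
        obtain ⟨w, h3, h4, h5⟩ := hK.orbit hs F (fun y hy => hm ⟨y, hy⟩)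
          fun b hb h3 => h2 ⟨b, h3⟩ hb
        exact h4 ▸ Good.indep hc _ h3 (hM _ trivial h5) K (Finset.mem_univ K))
      (by
        obtain ⟨m, hm, h2⟩ := hK.1
        exact fun e => hm (mem_bot.1 (e ▸ fun y => h2 y y.2)))
    obtain ⟨w, h5, rfl, h7⟩ := hK.orbit hs H (fun y hy => h2 ⟨y, hy⟩) fun b hb h5 => h4 ⟨b, h5⟩ hb
    exact hK.2 _ h3 (fun y hy => h2 ⟨y, hy⟩) x (div_eq_one.1 (Good.indep hc _ (h5.comm hc x) (by
      rw [Finset.prod_div_distrib, ← Finset.smul_prod', div_eq_one, hH x _ hx h7]) K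
      (Finset.mem_univ K)))
  obtain ⟨K, hK⟩ := exists_mx (M := M) (Q := Q)
  have h1 := h.le_of_fix (U := ⨅ L : {L : Subgroup Q // Mx M L}, L.1) (fun a x hx =>
    mem_iInf.2 fun L => by
      simpa [mem_pointwise_smul_iff_inv_smul_mem] using mem_iInf.1 hx ⟨_, L.2.smul hs a⁻¹⟩)
    inv_top hQ fun c _ h1 => mem_iInf.2 fun L => key _ L.2 c h1
  obtain ⟨m, hm, h2⟩ := hK.1
  exact ⟨m, hm, fun x => h2 x (mem_iInf.1 (h1 (mem_top x)) ⟨K, hK⟩)⟩

end W

theorem FH.le_cent (h : FH F H) {p : ℕ} [Fact p.Prime] {V : Subgroup G} [IsMulCommutative V]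
    (hV : Inv A V) (hf : Fpf F (⊤ : Subgroup G)) {C : Subgroup G} (hC : Group.IsNilpotent C)
    (hH : ∀ g : G, (∀ a ∈ H, a • g = g) → g ∈ C) (Q : Subgroup G) :
    Inv A Q → IsPGroup p Q → Q ≤ 𝐍[V] → (Nat.card Q).Coprime (Nat.card V) → Q ≤ 𝐂[V] := by
  induction Q using WellFoundedLT.induction with
  | ind Q ih =>
  intro hQ hp hn hco
  by_cases h0 : Q = ⊥
  · simp [h0]
  have h1 := Solv.commutator_lt_of_isPGroup hp hp le_normalizer h0
  have h2 := ih _ h1 (hQ.commutator hQ) (hp.to_le h1.le) (h1.le.trans hn)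
    (hco.coprime_dvd_left (card_dvd_of_le h1.le))
  rw [← le_centralizer_iff, ← commutator_eq_bot_iff_le_centralizer]
  by_contra h3
  set W := ⁅V, Q⁆
  have hW : W ≤ V := Solv.commutator_le_of_le_normalizer hn
  have : IsMulCommutative W := ⟨⟨fun a b => Subtype.ext (setLike_mul_comm (hW a.2) (hW b.2))⟩⟩
  have := (nontrivial_iff_ne_bot W).2 h3
  obtain ⟨_, e1⟩ := exists_subAction (hV.commutator hQ)
  obtain ⟨_, e2⟩ := exists_subAction hQ
  let _ : MulDistribMulAction Q W := MulDistribMulAction.compHom W (W.normalizerMonoidHom.comp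
    (inclusion (Solv.le_normalizer_commutator_right V Q)))
  have e3 : ∀ (x : Q) (m : W), ((x • m : W) : G) = x * m * (x : G)⁻¹ := fun _ _ => rfl
  obtain ⟨m, hm, h4⟩ := h.exists_cent (M := W) (Q := Q)
    (fun a x m => Subtype.ext (by simp [e1, e2, e3, smul_mul', smul_inv']))
    (fun x y m => Subtype.ext (by
      have := h2 (commutator_mem_commutator (inv_mem y.2) (inv_mem x.2)) m (hW m.2)
      simp only [e3, commutatorElement_def, inv_inv] at this ⊢
      calc _ = (y * x) * ((y : G)⁻¹ * (x : G)⁻¹ * y * x)⁻¹ * (m * ((y : G)⁻¹ * (x : G)⁻¹ * y * x)) *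
          ((y : G) * x)⁻¹ := by group
        _ = _ := by rw [this]; group))
    (fun y _ h => Subtype.ext (hf y trivial fun f hf => by rw [← e1, h f hf]))
    (fun y _ h => Subtype.ext (hf y trivial fun f hf => by rw [← e2, h f hf]))
    (fun x m hx hm => Subtype.ext (by
      rw [e3, (Solv.NA.commute_of_mem hC (hH x fun a ha => by rw [← e2, hx a ha])
        (hH m fun a ha => by rw [← e1, hm a ha]) ((hco.coprime_dvd_left
          (orderOf_dvd_natCard Q x.2)).coprime_dvd_right (orderOf_dvd_natCard V (hW m.2)))).eq,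
        mul_inv_cancel_right]))
  refine hm (Subtype.ext (mem_bot.1 (Solv.coprime_centralizer_inf_commutator Q V hn hco ▸
    mem_inf.2 ⟨mem_inf.2 ⟨hW m.2, fun x hx => ?_⟩, m.2⟩)))
  exact mul_inv_eq_iff_eq_mul.1 (congrArg Subtype.val (h4 ⟨x, hx⟩))

theorem FH.center_ne_bot (h : FH F H) (hf : Fpf F (⊤ : Subgroup G)) {C : Subgroup G}
    (hC : Group.IsNilpotent C) (hH : ∀ g : G, (∀ a ∈ H, a • g = g) → g ∈ C) {r : ℕ}
    [hr : Fact r.Prime] (h1 : pCore r G ≠ ⊥) : center G ≠ ⊥ := by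
  have := h.normal
  set V := omegaZ (pCore r G) r
  have hO := Grp.pCore_isPGroup r G
  have hV : IsPGroup r V := hO.to_le fun x hx => hx.1
  obtain ⟨R⟩ : Nonempty (Sylow r G) := inferInstance
  obtain ⟨⟨z, hzV, hz⟩, hz1⟩ := ne_bot_iff_exists_ne_one.1 (inf_centralizer_ne_bot R.2 hV
    le_normalizer_of_normal (omegaZ_ne_bot hO.isNilpotent hr.out (Solv.NA.dvd_card_of_ne_bot hO h1)))
  have htop : centralizer {z} = ⊤ := by
    refine Solv.eq_top_of_forall_sylow_le _ fun q _ => ?_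
    by_cases hqr : q = r
    · subst hqr
      exact ⟨R, fun x hx => mem_centralizer_singleton_iff.2 (hz x hx)⟩
    obtain ⟨T, hT, hI⟩ := hf.exists_syl h.nil inv_top q
    obtain ⟨Q, rfl⟩ := hT.exists_sylow_top
    exact ⟨Q, fun x hx => mem_centralizer_singleton_iff.2 (h.le_cent
      (inv_omegaZ (inv_of_characteristic _) r) hf hC hH _ hI Q.2 le_normalizer_of_normal
      (IsPGroup.coprime_card_of_ne q r hqr _ _ Q.2 hV) hx z hzV).symm⟩
  exact ne_bot_iff_exists_ne_one.2 ⟨⟨z, mem_center_iff.2 fun g =>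
    mem_centralizer_singleton_iff.1 (htop ▸ mem_top g)⟩,
    fun h => hz1 (Subtype.ext (Subtype.ext_iff.1 h :))⟩

theorem FH.isNilpotent (h : FH F H) (G : Type u) [Group G] [Finite G] :
    ∀ _ : MulDistribMulAction A G, Fpf F (⊤ : Subgroup G) → ∀ C : Subgroup G, Group.IsNilpotent C →
      (∀ g : G, (∀ a ∈ H, a • g = g) → g ∈ C) → Group.IsNilpotent G := by
  have := h.normal
  refine Grp.card_induction (P := fun G _ _ => ∀ _ : MulDistribMulAction A G,
    Fpf F (⊤ : Subgroup G) → ∀ C : Subgroup G, Group.IsNilpotent C →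
      (∀ g : G, (∀ a ∈ H, a • g = g) → g ∈ C) → Group.IsNilpotent G) ?_ G
  intro G _ _ ih _ hf C hC hH
  have hsub : ∀ K : Subgroup G, K ≠ ⊤ → Inv A K → Group.IsNilpotent K := by
    intro K hK hI
    obtain ⟨_, hs⟩ := exists_subAction hI
    exact ih K (Grp.card_lt_of_ne_top hK) _
      (fun y _ h => Subtype.ext (hf y trivial fun f hf => by rw [← hs, h f hf])) (C.subgroupOf K)
      (Grp.isNilpotent_comap_of_injective C _ K.subtype_injective)
      fun g hg => hH g fun a ha => by rw [← hs, hg a ha]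
  by_cases hcore : ∃ r : ℕ, r.Prime ∧ pCore r G ≠ ⊥
  · obtain ⟨r, hr, hne⟩ := hcore
    have := Fact.mk hr
    have hI : Inv A (center G) := inv_of_characteristic _
    obtain ⟨_, hq⟩ := exists_quotAction hI
    refine Group.of_quotient_center_nilpotent (ih _
      (Grp.card_quotient_lt _ (h.center_ne_bot hf hC hH hne)) _
      ((hf.quot h.nil hI le_top hq).mono (map_top_of_surjective _ (QuotientGroup.mk'_surjective _)).ge)
      _ (Grp.isNilpotent_map C (QuotientGroup.mk' _)) fun g hg => ?_)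
    obtain ⟨g, rfl⟩ := QuotientGroup.mk_surjective g
    obtain ⟨c, h1, h2⟩ := h.lift hI (hf.mono le_top) g fun a ha => by
      rw [← QuotientGroup.eq, ← hq]; exact (hg a ha).symm
    exact ⟨c, hH c h1, (QuotientGroup.eq.2 h2).symm⟩
  push Not at hcore
  have hF : fittingSubgroup G = ⊥ := Grp.fitting_eq_bot_iff.2 hcore
  by_contra hG
  have hpg : ∀ q : ℕ, q.Prime → ¬ IsPGroup q G := fun q hq h => by
    have := Fact.mk hq
    exact hG h.isNilpotent
  obtain ⟨q, hq, hqd, hq2⟩ : ∃ q : ℕ, q.Prime ∧ q ∣ Nat.card G ∧ q ≠ 2 := by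
    by_contra h
    push Not at h
    exact hpg 2 Nat.prime_two (IsPGroup.of_card
      (Nat.eq_prime_pow_of_unique_prime_dvd Nat.card_pos.ne' (fun hq hd => h _ hq hd)))
  have := Fact.mk hq
  obtain ⟨T, hT, hI⟩ := hf.exists_syl h.nil inv_top q
  obtain ⟨Q, rfl⟩ := hT.exists_sylow_top
  have hQ1 : (Q : Subgroup G) ≠ ⊥ := Q.ne_bot_of_dvd_card hqd
  have hnorm : ∀ B : Subgroup G, B ≤ Q → B ≠ ⊥ → Inv A B →
      HasNormalPComplement q (normalizer (B : Set G)) := fun B hB hB1 hinv =>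
    Solv.hasNormalPComplement_of_isNilpotent (hsub _ (fun e => hB1 (le_bot_iff.1 (hcore q hq ▸
      Grp.le_pCore (normalizer_eq_top_iff.1 e) (Q.2.to_le hB)))) hinv.normalizer) q
  have hc : HasNormalPComplement q G := (S0108.result hq2 Q).2
    ⟨hnorm _ (PLocal.thompsonSubgroupOf_le _) (PLocal.thompsonSubgroupOf_ne_bot_of_isPGroup Q.2 hQ1)
      (inv_of_map_eq fun a => by rw [PLocal.map_thompsonSubgroupOf _ (hom_injective a), hI.map_eq]),
    Transfer.HasNormalPComplement.of_le (hnorm _ inf_le_left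
      (inf_centralizer_ne_bot Q.2 Q.2 le_normalizer hQ1) (hI.inf hI.centralizer))
      (centralizer_le_normalizer _)⟩
  rw [Transfer.hasNormalPComplement_iff_coprime] at hc
  have hne : pResidual q G ≠ ⊤ := fun e => by
    rw [e, card_top] at hc
    exact hq.one_lt.ne' (Nat.eq_one_of_dvd_coprimes hc hqd dvd_rfl)
  have h1 := Grp.le_fitting inferInstance (hsub _ hne (inv_of_characteristic _))
  rw [hF, le_bot_iff] at h1
  exact hpg q hq (Transfer.pResidual_eq_bot_iff.1 h1)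

end Cfsg.Agent.NFP
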